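import Groth.Agent.Lib.TensorCx.Basic
import Mathlib.RingTheory.Flat.Basic
import Mathlib.Algebra.Homology.HomologicalComplexBiprod
import Mathlib.Algebra.Homology.HomologicalComplexAbelian
import Mathlib.Algebra.Homology.HomologySequence
import Mathlib.Algebra.Homology.QuasiIso
import Mathlib.Algebra.Category.ModuleCat.Abelian
import Mathlib.Algebra.Category.ModuleCat.Biproducts

/-!
# Tensoring with a bounded above complex of flat modules
-/

universe u

open CategoryTheory CategoryTheory.Limits MonoidalCategory HomologicalComplex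
open scoped TensorProduct
open Groth.Agent.Lib.TensorCx.Basic Groth.Agent.Lib.FlatCx.Elem

namespace Groth.Agent.Lib.TensorCx.Vanish

variable {A : Type u} [CommRing A] {L M : Cx A}

lemma next_eq (n n' : ℤ) (h : n + 1 = n') : (ComplexShape.up ℤ).next n = n' :=
  (ComplexShape.up ℤ).next_eq' h

lemma prev_eq (n₀ n : ℤ) (h : n₀ + 1 = n) : (ComplexShape.up ℤ).prev n = n₀ :=
  (ComplexShape.up ℤ).prev_eq' h

lemma proj_eq_zero_of_lt (b : ℤ) (hb : ∀ i, b < i → IsZero (L.X i)) (i j n : ℤ) (hi : b < i)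
    (x : (tens L M).X n) : proj L M i j n x = 0 := by
  have := ModuleCat.subsingleton_of_isZero (hb i hi)
  exact Subsingleton.elim _ _

lemma exists_sub_d (hflat : ∀ i, Module.Flat A (L.X i)) (m q : ℤ)
    (hM : ∀ j, m ≤ j → M.ExactAt j) (x : (tens L M).X q)
    (hx : (tens L M).d q (q + 1) x = 0) (i₀ : ℤ) (hm : m ≤ q - i₀)
    (h : ∀ i j, i + j = q → i < i₀ → proj L M i j q x = 0) :
    ∃ y : (tens L M).X (q - 1), ∀ i j, i + j = q → i ≤ i₀ →
      proj L M i j q (x - (tens L M).d (q - 1) q y) = 0 := by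
  set j₀ := q - i₀ with hj₀
  set p := proj L M i₀ j₀ q x
  have hdp : (M.d j₀ (j₀ + 1)).hom.lTensor (L.X i₀) p = 0 := by
    have e := proj_d L M (i₀ - 1) i₀ j₀ (j₀ + 1) q (q + 1) (by omega) rfl (by omega) rfl x
    rw [hx, map_zero, h (i₀ - 1) (j₀ + 1) (by omega) (by omega), map_zero, zero_add] at e
    rcases Int.units_eq_one_or i₀.negOnePow with hu | hu <;> rw [hu] at e <;> simpa using e.symm
  have hexM : Function.Exact (M.d (j₀ - 1) j₀).hom (M.d j₀ (j₀ + 1)).hom := by
    have e := (HomologicalComplex.exactAt_iff' M (j₀ - 1) j₀ (j₀ + 1)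
      (prev_eq _ _ (by omega)) (next_eq _ _ rfl)).1 (hM j₀ hm)
    exact (ShortComplex.ShortExact.moduleCat_exact_iff_function_exact _).1 e
  have := hflat i₀
  obtain ⟨z, hz⟩ := (Module.Flat.lTensor_exact (L.X i₀) hexM p).1 hdp
  let y := ((i₀.negOnePow : ℤˣ) : ℤ) • incl L M i₀ (j₀ - 1) (q - 1) (by omega) z
  refine ⟨y, fun i j hij hi => ?_⟩
  rw [map_sub, proj_d L M (i - 1) i (j - 1) j (q - 1) q (by omega) (by omega) hij (by omega) y]
  have h1 : proj L M (i - 1) j (q - 1) y = 0 := by
    simp only [y, map_zsmul]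
    rw [proj_incl_ne L M i₀ (j₀ - 1) (i - 1) j (q - 1) _ (fun hh => by omega), smul_zero]
  rw [h1, map_zero, zero_add]
  by_cases hc : i = i₀
  · subst hc
    obtain rfl : j = j₀ := by omega
    simp only [y, map_zsmul, proj_incl, hz]
    rw [smul_smul, ← Units.val_mul, Int.units_mul_self, Units.val_one, one_smul, sub_self]
  · simp only [y, map_zsmul]
    rw [proj_incl_ne L M i₀ (j₀ - 1) i (j - 1) (q - 1) _ (fun hh => hc hh.1.symm),
      h i j hij (by omega)]
    simp

lemma exists_d_eq (hflat : ∀ i, Module.Flat A (L.X i)) (b m q : ℤ)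
    (hb : ∀ i, b < i → IsZero (L.X i))
    (hM : ∀ j, m ≤ j → M.ExactAt j) (hq : b + m ≤ q) :
    ∀ (k : ℕ) (x : (tens L M).X q), (tens L M).d q (q + 1) x = 0 →
      (∀ i j, i + j = q → i ≤ b - k → proj L M i j q x = 0) →
      ∃ y : (tens L M).X (q - 1), (tens L M).d (q - 1) q y = x
  | 0, x, _, h => by
    refine ⟨0, ?_⟩
    rw [map_zero]
    refine ext_proj (fun i j hij => ?_)
    rw [map_zero]
    by_cases hi : i ≤ b
    · exact (h i j hij (by omega)).symm
    · exact (proj_eq_zero_of_lt b hb i j q (by omega) x).symm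
  | k + 1, x, hx, h => by
    obtain ⟨y, hy⟩ := exists_sub_d hflat m q hM x hx (b - k) (by omega)
      (fun i j hij hi => h i j hij (by omega))
    obtain ⟨y', hy'⟩ := exists_d_eq hflat b m q hb hM hq k (x - (tens L M).d (q - 1) q y)
      (by rw [map_sub, hx, ← ConcreteCategory.comp_apply, HomologicalComplex.d_comp_d]; simp)
      hy
    exact ⟨y' + y, by rw [map_add, hy', sub_add_cancel]⟩

/-- If `L` is flat and bounded above by `b` and `M` is exact in degrees `≥ m`, then `L ⊗ M` is exact
in degrees `≥ b + m`. -/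
theorem isZero_homology (hflat : ∀ i, Module.Flat A (L.X i)) (b m q : ℤ)
    (hb : ∀ i, b < i → IsZero (L.X i))
    (hM : ∀ j, m ≤ j → M.ExactAt j) (hq : b + m ≤ q) :
    IsZero ((tens L M).homology q) := by
  rw [isZero_homology_iff (prev_eq (q - 1) q (by omega)) (next_eq q (q + 1) rfl)]
  intro x hx
  obtain ⟨s, hs, -⟩ := exists_eq_sum x
  obtain ⟨k, hk⟩ : ∃ k : ℕ, ∀ i ∈ s, b - (k : ℤ) < i := by
    refine ⟨(s.sup fun i => (b - i).toNat) + 1, fun i hi => ?_⟩
    have := Finset.le_sup (f := fun i => (b - i).toNat) hi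
    push_cast
    omega
  exact exists_d_eq hflat b m q hb hM hq k x hx
    (fun i j hij hi => hs i j hij (fun hmem => by have := hk i hmem; omega))

theorem isZero_homology_of_acyclic (hflat : ∀ i, Module.Flat A (L.X i)) (b : ℤ)
    (hb : ∀ i, b < i → IsZero (L.X i)) (hM : ∀ j, M.ExactAt j) (q : ℤ) :
    IsZero ((tens L M).homology q) :=
  isZero_homology hflat b (q - b) q hb (fun j _ => hM j) (by omega)

/-- The tensored short complex. -/
noncomputable def tensSC (L : Cx A) (S : ShortComplex (Cx A)) : ShortComplex (Cx A) :=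
  ShortComplex.mk (mapR L S.f) (mapR L S.g) (by rw [← mapR_comp, S.zero, mapR_zero])

theorem tensSC_shortExact (L : Cx A) (hflat : ∀ i, Module.Flat A (L.X i)) (S : ShortComplex (Cx A))
    (hS : S.ShortExact) : (tensSC L S).ShortExact := by
  refine HomologicalComplex.shortExact_of_degreewise_shortExact _ (fun n => ?_)
  have hdeg := fun j => hS.map_of_exact (HomologicalComplex.eval (ModuleCat.{u} A) _ j)
  have hinj : ∀ j, Function.Injective (S.f.f j) := fun j =>
    (ModuleCat.mono_iff_injective _).1 (hdeg j).mono_f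
  have hsurj : ∀ j, Function.Surjective (S.g.f j) := fun j =>
    (ModuleCat.epi_iff_surjective _).1 (hdeg j).epi_g
  have hex : ∀ j, Function.Exact (S.f.f j).hom (S.g.f j).hom := fun j =>
    (ShortComplex.ShortExact.moduleCat_exact_iff_function_exact _).1 (hdeg j).exact
  refine ShortComplex.ShortExact.mk' ?_ ?_ ?_
  · rw [ShortComplex.moduleCat_exact_iff]
    intro x hx
    change (mapR L S.g).f n x = 0 at hx
    obtain ⟨s, hs, hsum⟩ := exists_eq_sum x
    have hp : ∀ i, ∃ z, (S.f.f (n - i)).hom.lTensor (L.X i) z = proj L S.X₂ i (n - i) n x := by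
      intro i
      have := hflat i
      refine (Module.Flat.lTensor_exact (L.X i) (hex (n - i)) _).1 ?_
      rw [← proj_mapR, hx, map_zero]
    choose z hz using hp
    refine ⟨∑ i ∈ s, incl L S.X₁ i (n - i) n (add_sub_cancel i n) (z i), ?_⟩
    change (mapR L S.f).f n _ = x
    refine (map_sum ((mapR L S.f).f n).hom _ s).trans ?_
    conv_rhs => rw [hsum]
    exact Finset.sum_congr rfl (fun i _ => by rw [mapR_incl, hz])
  · refine (ModuleCat.mono_iff_injective _).2 ?_
    intro x y hxy
    refine ext_proj (fun i j hij => ?_)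
    have := hflat i
    refine Module.Flat.lTensor_preserves_injective_linearMap (S.f.f j).hom (hinj j) ?_
    rw [← proj_mapR, ← proj_mapR]
    exact congrArg (proj L S.X₂ i j n) hxy
  · refine (ModuleCat.epi_iff_surjective _).2 ?_
    intro x
    induction x using Basic.induction with
    | zero => exact ⟨0, map_zero _⟩
    | inc i j hij y =>
      obtain ⟨z, hz⟩ := LinearMap.lTensor_surjective (L.X i) (hsurj j) y
      exact ⟨incl L S.X₂ i j n hij z, (mapR_incl L S.g i j n hij z).trans (by rw [hz])⟩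
    | add a b ha hb =>
      obtain ⟨a', rfl⟩ := ha
      obtain ⟨b', rfl⟩ := hb
      exact ⟨a' + b', map_add _ _ _⟩

/-- Transport along an equality of degrees. -/
noncomputable def cst (Q : Cx A) {i j : ℤ} (h : i = j) : Q.X i →ₗ[A] Q.X j :=
  (eqToHom (congrArg Q.X h)).hom

lemma cst_self (Q : Cx A) {i : ℤ} (h : i = i) (x : Q.X i) : cst Q h x = x := rfl

lemma cst_cst (Q : Cx A) {i j : ℤ} (h : i = j) (h' : j = i) (x : Q.X i) :
    cst Q h' (cst Q h x) = x := by
  subst h; rfl

lemma d_cst (Q : Cx A) {i j k : ℤ} (h : i = j) (x : Q.X i) : Q.d j k (cst Q h x) = Q.d i k x := by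
  subst h; rfl

/-- The differential of `disk`. -/
noncomputable def diskD (Q : Cx A) (j : ℤ) :
    (Q.X (j - 1) × Q.X j) →ₗ[A] Q.X (j + 1 - 1) × Q.X (j + 1) :=
  LinearMap.prod (cst Q (show j = j + 1 - 1 by omega) ∘ₗ LinearMap.snd A _ _) 0

/-- The contractible complex `j ↦ Q (j-1) × Q j` covering `Q`. -/
noncomputable def disk (Q : Cx A) : Cx A :=
  CochainComplex.of (fun j => ModuleCat.of A (Q.X (j - 1) × Q.X j))
    (fun j => ModuleCat.ofHom (diskD Q j))
    (fun j => by
      refine ModuleCat.hom_ext (LinearMap.ext fun x => Prod.ext ?_ rfl)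
      change cst Q _ (0 : Q.X (j + 1)) = 0
      exact map_zero _)

lemma disk_d (Q : Cx A) (j : ℤ) (x : Q.X (j - 1) × Q.X j) :
    (disk Q).d j (j + 1) x = (cst Q (show j = j + 1 - 1 by omega) x.2, 0) := by
  have : (disk Q).d j (j + 1) = ModuleCat.ofHom (diskD Q j) :=
    CochainComplex.of_d (fun j => ModuleCat.of A (Q.X (j - 1) × Q.X j))
      (fun j => ModuleCat.ofHom (diskD Q j)) j
  rw [this]
  rfl

lemma disk_exactAt (Q : Cx A) (j : ℤ) : (disk Q).ExactAt j := by
  obtain ⟨k, rfl⟩ : ∃ k, j = k + 1 := ⟨j - 1, by omega⟩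
  rw [exactAt_iff' _ k (k + 1) (k + 1 + 1) (prev_eq _ _ rfl) (next_eq _ _ rfl),
    ShortComplex.moduleCat_exact_iff]
  intro x hx
  have h2 : x.2 = 0 := by
    have h1 := congrArg Prod.fst ((disk_d Q (k + 1) x).symm.trans hx)
    rw [← cst_cst Q (show k + 1 = k + 1 + 1 - 1 by omega) (by omega) x.2]
    exact (congrArg _ h1).trans (map_zero _)
  refine ⟨(0, cst Q (show k + 1 - 1 = k by omega) x.1), (disk_d Q k _).trans ?_⟩
  exact Prod.ext (cst_cst Q _ _ x.1) h2.symm

/-- The surjection `disk Q ⟶ Q`. -/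
noncomputable def diskπ (Q : Cx A) : disk Q ⟶ Q where
  f j := ModuleCat.ofHom (LinearMap.coprod (Q.d (j - 1) j).hom LinearMap.id)
  comm' i j hij := by
    obtain rfl : i + 1 = j := hij
    refine ModuleCat.hom_ext (LinearMap.ext fun (x : Q.X (i - 1) × Q.X i) => ?_)
    change Q.d i (i + 1) (Q.d (i - 1) i x.1 + x.2) =
      (LinearMap.coprod (Q.d (i + 1 - 1) (i + 1)).hom LinearMap.id) ((disk Q).d i (i + 1) x)
    refine Eq.trans ?_ (congrArg _ (disk_d Q i x).symm)
    rw [map_add, ← ConcreteCategory.comp_apply (Q.d (i - 1) i), HomologicalComplex.d_comp_d]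
    simp only [LinearMap.coprod_apply, d_cst]
    simp

lemma diskπ_surjective (Q : Cx A) (j : ℤ) : Function.Surjective ((diskπ Q).f j) := fun y => by
  refine ⟨((0 : Q.X (j - 1)), y), ?_⟩
  change Q.d (j - 1) j 0 + y = y
  rw [map_zero, zero_add]

/-- The biproduct short complex. -/
noncomputable def biprodSC (M D : Cx A) : ShortComplex (Cx A) :=
  ShortComplex.mk (biprod.inl : M ⟶ M ⊞ D) biprod.snd biprod.inl_snd

lemma biprodSC_shortExact (M D : Cx A) : (biprodSC M D).ShortExact :=
  ShortComplex.Splitting.shortExact (ShortComplex.Splitting.ofHasBinaryBiproduct M D)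

lemma isIso_homologyMap_tens_inl (hflat : ∀ i, Module.Flat A (L.X i)) (b : ℤ)
    (hb : ∀ i, b < i → IsZero (L.X i)) (M D : Cx A) (hD : ∀ j, D.ExactAt j) (q : ℤ) :
    IsIso (homologyMap (mapR L (biprod.inl : M ⟶ M ⊞ D)) q) := by
  have hS := tensSC_shortExact L hflat _ (biprodSC_shortExact M D)
  have hz := fun k => isZero_homology_of_acyclic (M := D) hflat b hb hD k
  have : Epi (homologyMap (mapR L (biprod.inl : M ⟶ M ⊞ D)) q) :=
    (hS.homology_exact₂ q).epi_f ((hz q).eq_of_tgt _ _)
  have : Mono (homologyMap (mapR L (biprod.inl : M ⟶ M ⊞ D)) q) :=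
    (hS.homology_exact₁ (q - 1) q (by simp)).mono_g ((hz (q - 1)).eq_of_src _ _)
  exact isIso_of_mono_of_epi _

/-- Tensoring with a bounded above complex of flat modules preserves quasi-isomorphisms. -/
theorem quasiIso_mapR (L : Cx A) (hflat : ∀ i, Module.Flat A (L.X i)) (b : ℤ)
    (hb : ∀ i, b < i → IsZero (L.X i)) {M Q : Cx A} (η : M ⟶ Q) [QuasiIso η] :
    QuasiIso (mapR L η) := by
  let g : M ⊞ disk Q ⟶ Q := biprod.desc η (diskπ Q)
  have hg : ∀ j, Function.Surjective (g.f j) := fun j y => by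
    obtain ⟨x, hx⟩ := diskπ_surjective Q j y
    refine ⟨(biprod.inr : disk Q ⟶ M ⊞ disk Q).f j x, ?_⟩
    rw [← ConcreteCategory.comp_apply, ← HomologicalComplex.comp_f, biprod.inr_desc, hx]
  have : Epi g := HomologicalComplex.epi_of_epi_f _ (fun j =>
    (ModuleCat.epi_iff_surjective _).2 (hg j))
  let S : ShortComplex (Cx A) := ShortComplex.mk (kernel.ι g) g (kernel.condition g)
  have hS : S.ShortExact := ShortComplex.ShortExact.mk'
    (ShortComplex.exact_of_f_is_kernel _ (kernelIsKernel g))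
    (inferInstanceAs (Mono (kernel.ι g))) (inferInstanceAs (Epi g))
  have hgiso : ∀ k, IsIso (homologyMap g k) := fun k => by
    have h1 : IsIso (homologyMap (biprod.inl : M ⟶ M ⊞ disk Q) k) := by
      have hs := biprodSC_shortExact M (disk Q)
      have hz : ∀ k, IsZero ((disk Q).homology k) := fun k => (disk_exactAt Q k).isZero_homology
      have : Epi (homologyMap (biprod.inl : M ⟶ M ⊞ disk Q) k) :=
        (hs.homology_exact₂ k).epi_f ((hz k).eq_of_tgt _ _)
      have : Mono (homologyMap (biprod.inl : M ⟶ M ⊞ disk Q) k) :=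
        (hs.homology_exact₁ (k - 1) k (by simp)).mono_g ((hz (k - 1)).eq_of_src _ _)
      exact isIso_of_mono_of_epi _
    have h2 : IsIso (homologyMap (biprod.inl : M ⟶ M ⊞ disk Q) k ≫ homologyMap g k) := by
      rw [← homologyMap_comp, biprod.inl_desc]
      infer_instance
    exact IsIso.of_isIso_comp_left (homologyMap (biprod.inl : M ⟶ M ⊞ disk Q) k) _
  have hK : ∀ j, (kernel g).ExactAt j := fun j => by
    rw [exactAt_iff_isZero_homology]
    refine (hS.homology_exact₁ (j - 1) j (by simp)).isZero_X₂ ?_ ?_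
    · have h3 := hS.comp_δ (j - 1) j (by simp)
      have : Epi (homologyMap S.g (j - 1)) :=
        haveI := hgiso (j - 1)
        inferInstanceAs (Epi (homologyMap g (j - 1)))
      exact zero_of_epi_comp _ h3
    · have : Mono (homologyMap S.g j) :=
        haveI := hgiso j
        inferInstanceAs (Mono (homologyMap g j))
      have h4 : homologyMap S.f j ≫ homologyMap S.g j = 0 := by
        rw [← homologyMap_comp, S.zero, homologyMap_zero]
      exact zero_of_comp_mono _ h4
  refine ⟨fun q => ?_⟩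
  rw [quasiIsoAt_iff_isIso_homologyMap]
  have hT := tensSC_shortExact L hflat S hS
  have hz := fun k => isZero_homology_of_acyclic (M := kernel g) hflat b hb hK k
  have hg' : IsIso (homologyMap (mapR L g) q) := by
    have : Mono (homologyMap (mapR L g) q) :=
      (hT.homology_exact₂ q).mono_g ((hz q).eq_of_src _ _)
    have : Epi (homologyMap (mapR L g) q) :=
      (hT.homology_exact₃ q (q + 1) (by simp)).epi_f ((hz (q + 1)).eq_of_tgt _ _)
    exact isIso_of_mono_of_epi _
  have := isIso_homologyMap_tens_inl hflat b hb M (disk Q) (disk_exactAt Q) q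
  rw [show η = biprod.inl ≫ g from (biprod.inl_desc _ _).symm, mapR_comp, homologyMap_comp]
  infer_instance

end Groth.Agent.Lib.TensorCx.Vanish
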