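import Groth.Agent.Lib.Tor.Balance
import Mathlib.Algebra.Homology.HomologySequence
import Mathlib.Algebra.Homology.ShortComplex.ModuleCat

/-!
# Dimension shifting in the second variable of Tor
-/

universe u

open CategoryTheory CategoryTheory.Limits MonoidalCategory
open scoped TensorProduct
open Groth.Agent.Lib.Tor.Balance

namespace Groth.Agent.Lib.TensorCx.TorShift

variable {A : Type u} [CommRing A] (X : ModuleCat.{u} A) (S : ShortComplex (ModuleCat.{u} A))

lemma hS' (hS : S.ShortExact) :
    (S.map (tensorCxFun (projectiveResolution X).complex)).ShortExact :=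
  shortExact_tensorCxFun _ (fun i => flat_of_projective ((projectiveResolution X).complex.X i)) S hS

lemma isZero_mid [Module.Flat A S.X₂] (n : ℕ) :
    IsZero (((tensorCxFun (projectiveResolution X).complex).obj S.X₂).homology (n + 1)) :=
  isZero_homology_succ_of_exactAt _ (projectiveResolution X).complex_exactAt_succ
    (tensorRight S.X₂) n

/-- Dimension shifting. -/
noncomputable def shiftIso (hS : S.ShortExact) [Module.Flat A S.X₂] (n : ℕ) :
    ((CategoryTheory.Tor (ModuleCat.{u} A) (n + 1 + 1)).obj X).obj S.X₃ ≅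
      ((CategoryTheory.Tor (ModuleCat.{u} A) (n + 1)).obj X).obj S.X₁ :=
  ((torIsoOfResolution (projectiveResolution X) (n + 1 + 1)).app S.X₃).symm ≪≫
    (hS' X S hS).δIso (n + 1 + 1) (n + 1) (by simp) (isZero_mid X S (n + 1)) (isZero_mid X S n) ≪≫
    (torIsoOfResolution (projectiveResolution X) (n + 1)).app S.X₁

/-- The boundary map out of `Tor₁`. -/
noncomputable def boundary (hS : S.ShortExact) :
    (((CategoryTheory.Tor (ModuleCat.{u} A) 1).obj X).obj S.X₃) ⟶ X ⊗ S.X₁ :=
  ((torIsoOfResolution (projectiveResolution X) 1).app S.X₃).inv ≫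
    (hS' X S hS).δ 1 0 (by simp) ≫
    (zeroIso (projectiveResolution X).complex ((projectiveResolution X).π.f 0)
      (projectiveResolution X).complex_d_comp_π_f_zero inferInstance
      (resolution_exact_zero (projectiveResolution X))).hom.app S.X₁

/-- Every element killed by `X ⊗ S.f` is in the image of the boundary. -/
lemma mem_range_boundary (hS : S.ShortExact) (x : X ⊗[A] S.X₁)
    (hx : S.f.hom.lTensor X x = 0) :
    ∃ t : ((CategoryTheory.Tor (ModuleCat.{u} A) 1).obj X).obj S.X₃, boundary X S hS t = x := by
  let P := projectiveResolution X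
  let z := zeroIso P.complex (P.π.f 0) P.complex_d_comp_π_f_zero inferInstance
      (resolution_exact_zero P)
  have hex := (hS' X S hS).homology_exact₁ 1 0 (by simp)
  rw [ShortComplex.moduleCat_exact_iff] at hex
  have hz : HomologicalComplex.homologyMap ((S.map (tensorCxFun P.complex)).f) 0
      ((z.app S.X₁).inv x) = 0 := by
    have e := z.inv.naturality S.f
    have e' : ((z.app S.X₁).inv ≫ (tensorCxFun P.complex ⋙
        HomologicalComplex.homologyFunctor _ (ComplexShape.down ℕ) 0).map S.f) x = 0 := by
      rw [show (z.app S.X₁).inv = z.inv.app S.X₁ from rfl, ← e]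
      exact (congrArg (z.inv.app S.X₂) (show (tensorLeft X).map S.f x = 0 from hx)).trans (map_zero _)
    exact e'
  obtain ⟨y, hy⟩ := hex _ hz
  refine ⟨((torIsoOfResolution P 1).app S.X₃).hom y, ?_⟩
  change z.hom.app S.X₁ ((hS' X S hS).δ 1 0 _
    (((torIsoOfResolution P 1).app S.X₃).inv (((torIsoOfResolution P 1).app S.X₃).hom y))) = x
  have h1 : ((torIsoOfResolution P 1).app S.X₃).inv
      (((torIsoOfResolution P 1).app S.X₃).hom y) = y :=
    ((torIsoOfResolution P 1).app S.X₃).toLinearEquiv.symm_apply_apply y
  rw [h1]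
  exact (congrArg (z.hom.app S.X₁) hy).trans ((z.app S.X₁).toLinearEquiv.apply_symm_apply x)

end Groth.Agent.Lib.TensorCx.TorShift
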