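import Groth.Agent.Lib.TensorCx.Resolution
import Groth.Agent.Lib.TensorCx.TorShift

/-!
# The Künneth filtration
-/

universe u

open CategoryTheory CategoryTheory.Limits MonoidalCategory HomologicalComplex
open scoped TensorProduct DirectSum
open Groth.Agent.Lib.TensorCx.Basic Groth.Agent.Lib.TensorCx.Vanish
  Groth.Agent.Lib.TensorCx.Kunneth Groth.Agent.Lib.TensorCx.Resolution

namespace Groth.Agent.Lib.TensorCx.Filtration

variable {A : Type u} [CommRing A]

lemma sumMap_zero (L : Cx A) {M M' : Cx A} (n : ℤ) (x : KSum L M n) :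
    sumMap L (0 : M ⟶ M') n x = 0 := by
  have : sumMap L (0 : M ⟶ M') n = 0 := by
    refine DirectSum.linearMap_ext A (fun ij => LinearMap.ext fun y => ?_)
    simp only [LinearMap.comp_apply, sumMap, DirectSum.lmap_lof, homologyMap_zero,
      ModuleCat.hom_zero, LinearMap.lTensor_zero, LinearMap.zero_apply, map_zero]
  rw [this]; rfl

/-- Iterated syzygies. -/
noncomputable def Kp (M : Cx A) : ℕ → Cx A
  | 0 => M
  | p + 1 => syz (Kp M p)

lemma exactAt_Kp (M : Cx A) (j : ℤ) (hM : M.ExactAt j) : ∀ p, (Kp M p).ExactAt j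
  | 0 => hM
  | p + 1 => exactAt_syz _ j (exactAt_Kp M j hM p)

/-- Iterated Tor shift. -/
noncomputable def torShift (X : ModuleCat.{u} A) (M : Cx A) (j : ℤ) :
    ∀ (p q r : ℕ), q + 1 + p = r →
      (((CategoryTheory.Tor (ModuleCat.{u} A) (q + 1)).obj X).obj ((Kp M p).homology j) ≅
        ((CategoryTheory.Tor (ModuleCat.{u} A) r).obj X).obj (M.homology j))
  | 0, q, r, h => eqToIso (by subst h; rfl)
  | p + 1, q, r, h =>
      haveI : Module.Flat A (homSC (Kp M p) j).X₂ := flat_homology_cover _ j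
      (TorShift.shiftIso X (homSC (Kp M p) j) (homSC_shortExact _ j) q).symm ≪≫
        torShift X M j p (q + 1) r (by omega)

/-- The map out of a higher Tor. -/
noncomputable def torMap (X : ModuleCat.{u} A) (M : Cx A) (j : ℤ) (p : ℕ) :
    (((CategoryTheory.Tor (ModuleCat.{u} A) (p + 1)).obj X).obj (M.homology j) : ModuleCat.{u} A)
      →ₗ[A] X ⊗[A] (Kp M (p + 1)).homology j :=
  ((torShift X M j p 0 (p + 1) (by omega)).inv ≫
    TorShift.boundary X (homSC (Kp M p) j) (homSC_shortExact _ j)).hom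

lemma mem_range_torMap (X : ModuleCat.{u} A) (M : Cx A) (j : ℤ) (p : ℕ)
    (x : X ⊗[A] (Kp M (p + 1)).homology j)
    (hx : (homologyMap (coverSC (Kp M p)).f j).hom.lTensor X x = 0) :
    x ∈ LinearMap.range (torMap X M j p) := by
  obtain ⟨t, ht⟩ := TorShift.mem_range_boundary X (homSC (Kp M p) j) (homSC_shortExact _ j) x hx
  refine ⟨(torShift X M j p 0 (p + 1) (by omega)).hom t, ?_⟩
  change TorShift.boundary X (homSC (Kp M p) j) (homSC_shortExact _ j)
    ((torShift X M j p 0 (p + 1) _).toLinearEquiv.symm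
      ((torShift X M j p 0 (p + 1) _).toLinearEquiv t)) = x
  rw [LinearEquiv.symm_apply_apply]
  exact ht

variable (L M : Cx A)

/-- The summands of a Tor sum. -/
abbrev TFam (n : ℤ) (p : ℕ) (ij : {ij : ℤ × ℤ // ij.1 + ij.2 - p = n}) : Type u :=
  (((CategoryTheory.Tor (ModuleCat.{u} A) p).obj (ModuleCat.of A (L.homology ij.1.1))).obj
    (ModuleCat.of A (M.homology ij.1.2)) : ModuleCat.{u} A)

/-- Tor sums. -/
abbrev TSum (n : ℤ) (p : ℕ) : Type u :=
  DirectSum {ij : ℤ × ℤ // ij.1 + ij.2 - p = n} (TFam L M n p)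

/-- The map from a Tor sum to a Künneth sum. -/
noncomputable def torToSum (n q : ℤ) (p : ℕ) (hq : n + (p + 1 : ℕ) = q) :
    TSum L M n (p + 1) →ₗ[A] KSum L (Kp M (p + 1)) q :=
  DirectSum.toModule A _ _ (fun ij =>
    (DirectSum.lof A (Anti q) (fun kl => L.homology kl.1.1 ⊗[A] (Kp M (p + 1)).homology kl.1.2)
        ⟨ij.1, by have := ij.2; omega⟩) ∘ₗ
      torMap (ModuleCat.of A (L.homology ij.1.1)) M ij.1.2 p)

lemma mem_range_torToSum (n q : ℤ) (p : ℕ) (hq : n + (p + 1 : ℕ) = q)
    (u : KSum L (Kp M (p + 1)) q) (hu : sumMap L (coverSC (Kp M p)).f q u = 0) :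
    u ∈ LinearMap.range (torToSum L M n q p hq) := by
  have hmem : ∀ ij, u ij ∈ LinearMap.ker
      ((homologyMap (coverSC (Kp M p)).f ij.1.2).hom.lTensor (L.homology ij.1.1)) := fun ij => by
    have := DFunLike.congr_fun hu ij
    rwa [sumMap, DirectSum.lmap_apply] at this
  let κ : ∀ ij : Anti q, LinearMap.ker
      ((homologyMap (coverSC (Kp M p)).f ij.1.2).hom.lTensor (L.homology ij.1.1)) →ₗ[A]
      (L.homology ij.1.1 ⊗[A] (Kp M (p + 1)).homology ij.1.2) := fun ij => Submodule.subtype _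
  have hu' : u ∈ LinearMap.range (DirectSum.lmap κ) := by
    rw [DirectSum.range_lmap]
    exact fun ij _ => ⟨⟨u ij, hmem ij⟩, rfl⟩
  suffices hle : LinearMap.range (DirectSum.lmap κ) ≤
      LinearMap.range (torToSum L M n q p hq) from hle hu'
  rintro _ ⟨w, rfl⟩
  clear hu' hmem hu
  induction w using DirectSum.induction_on with
  | zero => rw [map_zero]; exact Submodule.zero_mem _
  | add a b ha hb => rw [map_add]; exact Submodule.add_mem _ ha hb
  | of ij x =>
    obtain ⟨t, ht⟩ := mem_range_torMap (ModuleCat.of A (L.homology ij.1.1)) M ij.1.2 p x.1 x.2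
    have hij : ij.1.1 + ij.1.2 - ((p + 1 : ℕ) : ℤ) = n := by have := ij.2; omega
    refine ⟨DirectSum.lof A {kl : ℤ × ℤ // kl.1 + kl.2 - ((p + 1 : ℕ) : ℤ) = n} (TFam L M n (p + 1)) ⟨ij.1, hij⟩ t, ?_⟩
    rw [← DirectSum.lof_eq_of A, DirectSum.lmap_lof, torToSum, DirectSum.toModule_lof]
    exact congrArg (DirectSum.lof A (Anti q)
      (fun kl => L.homology kl.1.1 ⊗[A] (Kp M (p + 1)).homology kl.1.2) ij) ht

variable (hflat : ∀ i, Module.Flat A (L.X i))

/-- The iterated connecting map. -/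
noncomputable def comp (n : ℤ) : ∀ (p : ℕ) (q : ℤ), n + p = q →
    ((tens L M).homology n ⟶ (tens L (Kp M p)).homology q)
  | 0, q, h => eqToHom (by obtain rfl : n = q := by omega
                           rfl)
  | p + 1, q, h => comp n p (q - 1) (by omega) ≫
      (tensSC_shortExact L hflat _ (coverSC_shortExact (Kp M p))).δ (q - 1) q (by simp)

/-- The filtration. -/
noncomputable def filt (n : ℤ) (p : ℕ) : Submodule A ((tens L M).homology n) :=
  LinearMap.ker (comp L M hflat n (p + 1) (n + (p + 1 : ℕ)) rfl).hom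

lemma mem_filt_iff (n : ℤ) (p : ℕ) (q : ℤ) (h : n + (p + 1 : ℕ) = q)
    (x : (tens L M).homology n) :
    x ∈ filt L M hflat n p ↔ comp L M hflat n (p + 1) q h x = 0 := by
  subst h
  exact Iff.rfl

lemma comp_succ_apply (n : ℤ) (p : ℕ) (q q' : ℤ) (hq : n + p = q) (hq' : n + (p + 1 : ℕ) = q')
    (x : (tens L M).homology n) :
    comp L M hflat n (p + 1) q' hq' x =
      (tensSC_shortExact L hflat _ (coverSC_shortExact (Kp M p))).δ q q' (by simp; omega)
        (comp L M hflat n p q hq x) := by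
  obtain rfl : q = q' - 1 := by omega
  rfl

lemma δ_eq_zero_iff (b : ℤ) (hb : ∀ i, b < i → IsZero (L.X i)) (N : Cx A) (q q' : ℤ)
    (h : q + 1 = q') (y : (tens L N).homology q) :
    (tensSC_shortExact L hflat _ (coverSC_shortExact N)).δ q q' h y = 0 ↔
      y ∈ LinearMap.range (kmap L N q) := by
  have hS := tensSC_shortExact L hflat _ (coverSC_shortExact N)
  have e := hS.homology_exact₃ q q' h
  rw [ShortComplex.moduleCat_exact_iff] at e
  rw [mem_range_kmap_iff L hflat b hb]
  refine ⟨fun hy => e y hy, ?_⟩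
  rintro ⟨z, rfl⟩
  exact (ConcreteCategory.congr_hom (hS.comp_δ q q' h) z).trans rfl

lemma ι_δ (N : Cx A) (q q' : ℤ) (h : q + 1 = q') (y : (tens L N).homology q) :
    homologyMap (mapR L (coverSC N).f) q'
      ((tensSC_shortExact L hflat _ (coverSC_shortExact N)).δ q q' h y) = 0 :=
  (ConcreteCategory.congr_hom
    ((tensSC_shortExact L hflat _ (coverSC_shortExact N)).δ_comp q q' h) y).trans rfl

lemma exists_δ_eq (N : Cx A) (q q' : ℤ) (h : q + 1 = q')
    (z : (tens L (syz N)).homology q') (hz : homologyMap (mapR L (coverSC N).f) q' z = 0) :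
    ∃ y, (tensSC_shortExact L hflat _ (coverSC_shortExact N)).δ q q' h y = z := by
  have e := (tensSC_shortExact L hflat _ (coverSC_shortExact N)).homology_exact₁ q q' h
  rw [ShortComplex.moduleCat_exact_iff] at e
  exact e z hz

variable (b : ℤ) (hb : ∀ i, b < i → IsZero (L.X i))

include hb in
lemma filt_zero (n : ℤ) : filt L M hflat n 0 = LinearMap.range (kmap L M n) := by
  ext x
  rw [mem_filt_iff L M hflat n 0 (n + 1) (by simp), comp_succ_apply L M hflat n 0 n (n + 1) (by simp)]
  have h0 : comp L M hflat n 0 n (by simp) = 𝟙 _ := rfl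
  rw [h0]
  exact δ_eq_zero_iff L hflat b hb M n (n + 1) rfl x

lemma filt_le_succ (n : ℤ) (p : ℕ) : filt L M hflat n p ≤ filt L M hflat n (p + 1) := by
  intro x hx
  rw [mem_filt_iff L M hflat n (p + 1) (n + (p + 1 : ℕ) + 1) (by omega),
    comp_succ_apply L M hflat n (p + 1) (n + (p + 1 : ℕ)) _ rfl]
  have : comp L M hflat n (p + 1) (n + (p + 1 : ℕ)) rfl x = 0 := hx
  rw [this]
  exact map_zero _

lemma filt_monotone (n : ℤ) : Monotone (filt L M hflat n) :=
  monotone_nat_of_le_succ (filt_le_succ L M hflat n)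

include hb in
lemma exists_filt_eq_top (m : ℤ) (hM : ∀ j, m ≤ j → M.ExactAt j) (n : ℤ) :
    ∃ N, filt L M hflat n N = ⊤ := by
  refine ⟨(b + m - n).toNat, eq_top_iff.2 fun x _ => ?_⟩
  rw [mem_filt_iff L M hflat n _ _ rfl]
  have := ModuleCat.subsingleton_of_isZero (isZero_homology (M := Kp M ((b + m - n).toNat + 1))
    hflat b m (n + (((b + m - n).toNat + 1 : ℕ) : ℤ)) hb
    (fun j hj => exactAt_Kp M j (hM j hj) _) (by push_cast; omega))
  exact Subsingleton.elim _ _

/-- The map of a Tor sum to the cohomology. -/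
noncomputable def psi (n q : ℤ) (p : ℕ) (hq : n + (p + 1 : ℕ) = q) :
    TSum L M n (p + 1) →ₗ[A] (tens L (Kp M (p + 1))).homology q :=
  kmap L (Kp M (p + 1)) q ∘ₗ torToSum L M n q p hq

include hb in
lemma comp_mem_range_psi (n q : ℤ) (p : ℕ) (hq : n + (p + 1 : ℕ) = q)
    (x : (tens L M).homology n) (hx : x ∈ filt L M hflat n (p + 1)) :
    comp L M hflat n (p + 1) q hq x ∈ LinearMap.range (psi L M n q p hq) := by
  rw [mem_filt_iff L M hflat n (p + 1) (q + 1) (by omega),
    comp_succ_apply L M hflat n (p + 1) q (q + 1) hq] at hx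
  obtain ⟨u, hu⟩ := (δ_eq_zero_iff L hflat b hb (Kp M (p + 1)) q (q + 1) rfl _).1 hx
  have hι : homologyMap (mapR L (coverSC (Kp M p)).f) q (kmap L (Kp M (p + 1)) q u) = 0 := by
    rw [hu, comp_succ_apply L M hflat n p (q - 1) q (by omega) hq]
    exact ι_δ L hflat (Kp M p) _ _ _ _
  have hu0 : sumMap L (coverSC (Kp M p)).f q u = 0 := by
    refine (kmap_cover_bijective L hflat b hb (Kp M p) q).1 (Eq.trans ?_ (map_zero _).symm)
    exact (kmap_naturality L (coverSC (Kp M p)).f q u).symm.trans hι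
  obtain ⟨t, rfl⟩ := mem_range_torToSum L M n q p hq u hu0
  exact ⟨t, hu⟩

include hb in
/-- The successive quotients of the filtration are subquotients of Tor sums. -/
theorem exists_subquotient (n : ℤ) (p : ℕ) :
    ∃ (S S' : Submodule A (TSum L M n (p + 1))), S ≤ S' ∧
      Nonempty ((↥(filt L M hflat n (p + 1)) ⧸
          Submodule.comap (filt L M hflat n (p + 1)).subtype (filt L M hflat n p)) ≃ₗ[A]
        (↥S' ⧸ Submodule.comap S'.subtype S)) := by
  let q : ℤ := n + (p + 1 : ℕ)
  let c := (comp L M hflat n (p + 1) q rfl).hom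
  let ψ := psi L M n q p rfl
  let W := Submodule.map c (filt L M hflat n (p + 1))
  let h : ↥(filt L M hflat n (p + 1)) →ₗ[A] ↥W := c.submoduleMap _
  have hh : Function.Surjective h := c.submoduleMap_surjective _
  let g : ↥(Submodule.comap ψ W) →ₗ[A] ↥W := ψ.restrict (fun x hx => hx)
  have hg : Function.Surjective g := by
    rintro ⟨w, hw⟩
    obtain ⟨x, hx, rfl⟩ := hw
    obtain ⟨t, ht⟩ := comp_mem_range_psi L M hflat b hb n q p rfl x hx
    exact ⟨⟨t, show ψ t ∈ W from ht ▸ ⟨x, hx, rfl⟩⟩, Subtype.ext ht⟩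
  refine ⟨LinearMap.ker ψ, Submodule.comap ψ W,
    fun x hx => by rw [Submodule.mem_comap, LinearMap.mem_ker.1 hx]; exact W.zero_mem, ⟨?_⟩⟩
  refine (Submodule.quotEquivOfEq _ (LinearMap.ker h) ?_).trans
    ((h.quotKerEquivOfSurjective hh).trans ((g.quotKerEquivOfSurjective hg).symm.trans
      (Submodule.quotEquivOfEq _ _ ?_)))
  · ext x
    exact ⟨fun hx => Subtype.ext hx, fun hx => congrArg Subtype.val hx⟩
  · ext x
    exact ⟨fun hx => congrArg Subtype.val hx, fun hx => Subtype.ext hx⟩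

include hb in
lemma filt_eq_top_of_forall (m : ℤ) (hM : ∀ j, m ≤ j → M.ExactAt j) (n : ℤ)
    (h : ∀ p, Subsingleton (TSum L M n (p + 1))) : filt L M hflat n 0 = ⊤ := by
  obtain ⟨N, hN⟩ := exists_filt_eq_top L M hflat b hb m hM n
  have : ∀ p, filt L M hflat n p = filt L M hflat n 0 := by
    intro p
    induction p with
    | zero => rfl
    | succ p ih =>
      rw [← ih]
      refine le_antisymm (fun x hx => ?_) (filt_le_succ L M hflat n p)
      obtain ⟨t, ht⟩ := comp_mem_range_psi L M hflat b hb n _ p rfl x hx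
      have := h p
      rw [Subsingleton.elim t 0, map_zero] at ht
      exact ht.symm
  rw [← this N, hN]

include hflat hb in
/-- Surjectivity of the Künneth map when the higher Tor sums vanish. -/
theorem kmap_surjective (m : ℤ) (hM : ∀ j, m ≤ j → M.ExactAt j) (n : ℤ)
    (h : ∀ p, Subsingleton (TSum L M n (p + 1))) : Function.Surjective (kmap L M n) := by
  rw [← LinearMap.range_eq_top, ← filt_zero L M hflat b hb n]
  exact filt_eq_top_of_forall L M hflat b hb m hM n h

lemma subsingleton_tsum_of_flat (hH : ∀ i, Module.Flat A (L.homology i)) (n : ℤ) (p : ℕ) :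
    Subsingleton (TSum L M n (p + 1)) := by
  have : ∀ ij : {ij : ℤ × ℤ // ij.1 + ij.2 - ((p + 1 : ℕ) : ℤ) = n}, Subsingleton
      (((CategoryTheory.Tor (ModuleCat.{u} A) (p + 1)).obj (ModuleCat.of A (L.homology ij.1.1))).obj
        (ModuleCat.of A (M.homology ij.1.2)) : ModuleCat.{u} A) := fun ij =>
    have : Module.Flat A (ModuleCat.of A (L.homology ij.1.1)) := hH ij.1.1
    ModuleCat.subsingleton_of_isZero
      (Groth.Agent.Lib.Tor.Balance.isZero_tor_succ_of_flat_left _ _ p)
  exact ⟨fun x y => DFinsupp.ext fun ij => Subsingleton.elim _ _⟩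

include hflat hb in
/-- The Künneth isomorphism for flat cohomology. -/
theorem kmap_bijective (m : ℤ) (hM : ∀ j, m ≤ j → M.ExactAt j)
    (hH : ∀ i, Module.Flat A (L.homology i)) (n : ℤ) : Function.Bijective (kmap L M n) := by
  refine ⟨?_, kmap_surjective L M hflat b hb m hM n (subsingleton_tsum_of_flat L M hH n)⟩
  rw [injective_iff_map_eq_zero]
  intro u hu
  obtain ⟨w, rfl⟩ := sumMap_coverπ_surjective L M n u
  have h0 : homologyMap (mapR L (coverπ M)) n (kmap L (cover M) n w) = 0 :=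
    (kmap_naturality L _ n w).trans hu
  have e := (tensSC_shortExact L hflat _ (coverSC_shortExact M)).homology_exact₂ n
  rw [ShortComplex.moduleCat_exact_iff] at e
  obtain ⟨y, hy⟩ := e _ h0
  obtain ⟨u', rfl⟩ := kmap_surjective L (syz M) hflat b hb m
    (fun j hj => exactAt_syz M j (hM j hj)) n (subsingleton_tsum_of_flat L (syz M) hH n) y
  have hw : w = sumMap L (coverSC M).f n u' :=
    (kmap_cover_bijective L hflat b hb M n).1
      (hy.symm.trans (kmap_naturality L (coverSC M).f n u'))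
  rw [hw]
  have : sumMap L (coverπ M) n (sumMap L (coverSC M).f n u') =
      sumMap L ((coverSC M).f ≫ (coverSC M).g) n u' := sumMap_comp L _ _ n u'
  rw [this, (coverSC M).zero]
  exact sumMap_zero L n u'

lemma exactAt_of_isZero_above (c : ℤ) (hc : ∀ i, c < i → IsZero (M.X i)) (j : ℤ) (hj : c + 1 ≤ j) :
    M.ExactAt j := by
  rw [exactAt_iff_isZero_homology]
  exact ShortComplex.isZero_homology_of_isZero_X₂ _ (hc j (by omega))

end Groth.Agent.Lib.TensorCx.Filtration
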