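import Groth.Agent.Lib.FlatCx.Elem
import Mathlib.Algebra.Homology.Monoidal
import Mathlib.Algebra.Category.ModuleCat.Monoidal.Basic
import Mathlib.LinearAlgebra.TensorProduct.Basic

/-!
# Elements of tensor products of cochain complexes of modules
-/

universe u

open CategoryTheory CategoryTheory.Limits MonoidalCategory HomologicalComplex
open scoped TensorProduct

namespace Groth.Agent.Lib.TensorCx.Basic

variable {A : Type u} [CommRing A]

/-- Complexes of modules. -/
abbrev Cx (A : Type u) [CommRing A] : Type (u + 1) := CochainComplex (ModuleCat.{u} A) ℤ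

/-- The tensor product. -/
noncomputable abbrev tens (L M : Cx A) : Cx A := HomologicalComplex.tensorObj L M

variable (L M : Cx A)

/-- The inclusion of a summand. -/
noncomputable def incl (i j n : ℤ) (h : i + j = n) : (L.X i ⊗[A] M.X j) →ₗ[A] (tens L M).X n :=
  (ιTensorObj L M i j n h).hom

variable {L M} in
lemma hom_ext' {n : ℤ} {N : Type u} [AddCommGroup N] [Module A N]
    {f g : (tens L M).X n →ₗ[A] N}
    (h : ∀ i j hij, f ∘ₗ incl L M i j n hij = g ∘ₗ incl L M i j n hij) : f = g := by
  have : ModuleCat.ofHom f = ModuleCat.ofHom g := by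
    refine mapBifunctor.hom_ext (fun i j hij => ?_)
    exact ModuleCat.hom_ext (h i j hij)
  exact congrArg ModuleCat.Hom.hom this

variable {L M} in
lemma iSup_range_incl (n : ℤ) :
    ⨆ (i : ℤ) (j : ℤ) (h : i + j = n), LinearMap.range (incl L M i j n h) = ⊤ := by
  set S := ⨆ (i : ℤ) (j : ℤ) (h : i + j = n), LinearMap.range (incl L M i j n h) with hS
  have : S.mkQ = 0 := by
    refine hom_ext' (fun i j hij => ?_)
    apply LinearMap.ext
    intro x
    refine (Submodule.Quotient.mk_eq_zero S).2 ?_
    exact Submodule.mem_iSup_of_mem i (Submodule.mem_iSup_of_mem j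
      (Submodule.mem_iSup_of_mem hij ⟨x, rfl⟩))
  rw [← Submodule.ker_mkQ S, this, LinearMap.ker_zero]

variable {L M} in
/-- Induction on elements of a tensor complex. -/
@[elab_as_elim]
lemma induction {n : ℤ} {motive : (tens L M).X n → Prop} (x : (tens L M).X n)
    (zero : motive 0) (inc : ∀ i j hij y, motive (incl L M i j n hij y))
    (add : ∀ a b, motive a → motive b → motive (a + b)) : motive x := by
  have hx : x ∈ (⊤ : Submodule A ((tens L M).X n)) := trivial
  rw [← iSup_range_incl n] at hx
  refine Submodule.iSup_induction _ (motive := motive) hx (fun i x hx => ?_) zero add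
  refine Submodule.iSup_induction _ (motive := motive) hx (fun j x hx => ?_) zero add
  refine Submodule.iSup_induction _ (motive := motive) hx (fun h x hx => ?_) zero add
  obtain ⟨y, rfl⟩ := hx
  exact inc i j h y

/-- The projection onto a summand. -/
noncomputable def proj (i j n : ℤ) : (tens L M).X n →ₗ[A] (L.X i ⊗[A] M.X j) :=
  (mapBifunctorDesc (F := curriedTensor (ModuleCat.{u} A))
    (A := ModuleCat.of A (L.X i ⊗[A] M.X j))
    (fun i' j' _ => if e : i' = i ∧ j' = j then eqToHom (by obtain ⟨rfl, rfl⟩ := e; rfl) else 0)).hom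

lemma proj_incl (i j n : ℤ) (h : i + j = n) (x : L.X i ⊗[A] M.X j) :
    proj L M i j n (incl L M i j n h x) = x := by
  refine (ConcreteCategory.congr_hom (ι_mapBifunctorDesc (K₁ := L) (K₂ := M)
    (F := curriedTensor (ModuleCat.{u} A)) (c := ComplexShape.up ℤ) (j := n) _ i j h) x).trans ?_
  simp only [and_self, dite_true, eqToHom_refl]
  rfl

lemma proj_incl_ne (i j i' j' n : ℤ) (h : i + j = n) (hne : ¬(i = i' ∧ j = j'))
    (x : L.X i ⊗[A] M.X j) :
    proj L M i' j' n (incl L M i j n h x) = 0 := by
  refine (ConcreteCategory.congr_hom (ι_mapBifunctorDesc (K₁ := L) (K₂ := M)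
    (F := curriedTensor (ModuleCat.{u} A)) (c := ComplexShape.up ℤ) (j := n) _ i j h) x).trans ?_
  simp only [hne, dite_false]
  rfl

variable {L M} in
/-- Every element is the finite sum of its components. -/
lemma exists_eq_sum {n : ℤ} (x : (tens L M).X n) :
    ∃ s : Finset ℤ, (∀ i j, i + j = n → i ∉ s → proj L M i j n x = 0) ∧
      x = ∑ i ∈ s, incl L M i (n - i) n (add_sub_cancel i n) (proj L M i (n - i) n x) := by
  have key : ∀ (x : (tens L M).X n) (s : Finset ℤ),
      (∀ i j, i + j = n → i ∉ s → proj L M i j n x = 0) → ∀ t, s ⊆ t →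
      x = ∑ i ∈ s, incl L M i (n - i) n (add_sub_cancel i n) (proj L M i (n - i) n x) →
      x = ∑ i ∈ t, incl L M i (n - i) n (add_sub_cancel i n) (proj L M i (n - i) n x) := by
    intro x s hs t hst hx
    conv_lhs => rw [hx]
    refine Finset.sum_subset hst (fun i _ hi => ?_)
    rw [hs i (n - i) (add_sub_cancel i n) hi, map_zero]
  induction x using induction with
  | zero => exact ⟨∅, fun i j _ _ => map_zero _, by simp⟩
  | inc i j hij y =>
    obtain rfl : j = n - i := by omega
    refine ⟨{i}, fun i' j' _ hi' => ?_, ?_⟩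
    · exact proj_incl_ne L M i (n - i) i' j' n hij (fun h => hi' (by simp [h.1])) y
    · rw [Finset.sum_singleton, proj_incl]
  | add a b ha hb =>
    obtain ⟨s, hs, hs'⟩ := ha
    obtain ⟨t, ht, ht'⟩ := hb
    refine ⟨s ∪ t, fun i j h hi => ?_, ?_⟩
    · rw [map_add, hs i j h (fun h' => hi (Finset.mem_union_left _ h')),
        ht i j h (fun h' => hi (Finset.mem_union_right _ h')), add_zero]
    · simp only [map_add, Finset.sum_add_distrib]
      exact congrArg₂ (· + ·) (key a s hs _ Finset.subset_union_left hs')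
        (key b t ht _ Finset.subset_union_right ht')

variable {L M} in
lemma ext_proj {n : ℤ} {x y : (tens L M).X n}
    (h : ∀ i j, i + j = n → proj L M i j n x = proj L M i j n y) : x = y := by
  obtain ⟨s, -, hs⟩ := exists_eq_sum (x - y)
  have h0 : ∀ i, proj L M i (n - i) n (x - y) = 0 := fun i => by
    rw [map_sub, h i (n - i) (add_sub_cancel i n), sub_self]
  simp only [h0, map_zero, Finset.sum_const_zero] at hs
  exact sub_eq_zero.1 hs

/-- The differential on a summand. -/
lemma d_incl (i j n i' j' n' : ℤ) (h : i + j = n) (hi : i + 1 = i') (hj : j + 1 = j')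
    (h₁ : i' + j = n') (h₂ : i + j' = n') (x : L.X i ⊗[A] M.X j) :
    (tens L M).d n n' (incl L M i j n h x) =
      incl L M i' j n' h₁ ((L.d i i').hom.rTensor (M.X j) x) +
        ((i.negOnePow : ℤˣ) : ℤ) • incl L M i j' n' h₂ ((M.d j j').hom.lTensor (L.X i) x) := by
  have e : ιTensorObj L M i j n h ≫ (tens L M).d n n' =
      ((curriedTensor (ModuleCat.{u} A)).map (L.d i i')).app (M.X j) ≫ ιTensorObj L M i' j n' h₁ +
      i.negOnePow • (((curriedTensor (ModuleCat.{u} A)).obj (L.X i)).map (M.d j j') ≫
        ιTensorObj L M i j' n' h₂) := by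
    rw [mapBifunctor.d_eq, Preadditive.comp_add, mapBifunctor.ι_D₁, mapBifunctor.ι_D₂,
      mapBifunctor.d₁_eq _ _ _ _ (show (ComplexShape.up ℤ).Rel i i' from hi) _ _ h₁,
      mapBifunctor.d₂_eq _ _ _ _ _ (show (ComplexShape.up ℤ).Rel j j' from hj) _ h₂]
    congr 1
    exact one_smul _ _
  exact ConcreteCategory.congr_hom e x

/-- The components of a differential. -/
lemma proj_d (i₀ i j₀ j n n' : ℤ) (hi : i₀ + 1 = i) (hj : j₀ + 1 = j) (h : i + j = n')
    (hn : n + 1 = n') (x : (tens L M).X n) :
    proj L M i j n' ((tens L M).d n n' x) =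
      (L.d i₀ i).hom.rTensor (M.X j) (proj L M i₀ j n x) +
        ((i.negOnePow : ℤˣ) : ℤ) • (M.d j₀ j).hom.lTensor (L.X i) (proj L M i j₀ n x) := by
  induction x using induction with
  | zero => simp
  | add a b ha hb => simp only [map_add, ha, hb, smul_add]; abel
  | inc a b hab y =>
    rw [d_incl L M a b n (a + 1) (b + 1) n' hab rfl rfl (by omega) (by omega), map_add, map_zsmul]
    congr 1
    · by_cases hc : a = i₀ ∧ b = j
      · obtain ⟨rfl, rfl⟩ := hc
        subst hi
        rw [proj_incl, proj_incl]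
      · rw [proj_incl_ne L M a b i₀ j n hab hc, map_zero,
          proj_incl_ne L M (a + 1) b i j n' _ (fun h' => hc ⟨by omega, h'.2⟩)]
    · by_cases hc : a = i ∧ b = j₀
      · obtain ⟨rfl, rfl⟩ := hc
        subst hj
        rw [proj_incl, proj_incl]
      · rw [proj_incl_ne L M a b i j₀ n hab hc, map_zero, smul_zero,
          proj_incl_ne L M a (b + 1) i j n' _ (fun h' => hc ⟨h'.1, by omega⟩), smul_zero]

variable {M} {M' : Cx A}

/-- The map induced on the right factor. -/
noncomputable abbrev mapR (f : M ⟶ M') : tens L M ⟶ tens L M' :=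
  HomologicalComplex.tensorHom (𝟙 L) f

lemma mapR_incl (f : M ⟶ M') (i j n : ℤ) (h : i + j = n) (x : L.X i ⊗[A] M.X j) :
    (mapR L f).f n (incl L M i j n h x) = incl L M' i j n h ((f.f j).hom.lTensor (L.X i) x) := by
  have e : ιTensorObj L M i j n h ≫ (mapR L f).f n =
      ((curriedTensor (ModuleCat.{u} A)).obj (L.X i)).map (f.f j) ≫ ιTensorObj L M' i j n h := by
    rw [ι_mapBifunctorMap, HomologicalComplex.id_f, CategoryTheory.Functor.map_id,
      NatTrans.id_app, Category.id_comp]
  exact ConcreteCategory.congr_hom e x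

lemma proj_mapR (f : M ⟶ M') (i j n : ℤ) (x : (tens L M).X n) :
    proj L M' i j n ((mapR L f).f n x) = (f.f j).hom.lTensor (L.X i) (proj L M i j n x) := by
  induction x using induction with
  | zero => simp
  | add a b ha hb => simp only [map_add, ha, hb]
  | inc a b hab y =>
    rw [mapR_incl]
    by_cases hc : a = i ∧ b = j
    · obtain ⟨rfl, rfl⟩ := hc
      rw [proj_incl, proj_incl]
    · rw [proj_incl_ne L M a b i j n hab hc, proj_incl_ne L M' a b i j n hab hc, map_zero]

lemma mapR_comp {M'' : Cx A} (f : M ⟶ M') (g : M' ⟶ M'') :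
    mapR L (f ≫ g) = mapR L f ≫ mapR L g := by
  refine HomologicalComplex.hom_ext _ _ (fun n => ?_)
  ext x
  refine ext_proj (fun i j h => ?_)
  simp only [HomologicalComplex.comp_f, ConcreteCategory.comp_apply, proj_mapR]
  exact LinearMap.lTensor_comp_apply _ _ _ _

lemma mapR_zero : mapR L (0 : M ⟶ M') = 0 := by
  refine HomologicalComplex.hom_ext _ _ (fun n => ?_)
  ext x
  refine ext_proj (fun i j h => ?_)
  rw [proj_mapR]
  simp

lemma mapR_id : mapR L (𝟙 M) = 𝟙 (tens L M) := by
  refine HomologicalComplex.hom_ext _ _ (fun n => ?_)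
  ext x
  refine ext_proj (fun i j h => ?_)
  rw [proj_mapR]
  simp

end Groth.Agent.Lib.TensorCx.Basic
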