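import Groth.Agent.Lib.TensorCx.Vanish
import Mathlib.LinearAlgebra.TensorProduct.RightExactness
import Mathlib.Algebra.DirectSum.Module

/-!
# The Künneth map for complexes of modules
-/

universe u

open CategoryTheory CategoryTheory.Limits MonoidalCategory HomologicalComplex
open scoped TensorProduct DirectSum
open Groth.Agent.Lib.TensorCx.Basic Groth.Agent.Lib.TensorCx.Vanish Groth.Agent.Lib.FlatCx.Elem

namespace Groth.Agent.Lib.TensorCx.Kunneth

variable {A : Type u} [CommRing A]

/-- Cycles in degree `i`. -/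
abbrev Zc (K : Cx A) (i : ℤ) : Submodule A (K.X i) := LinearMap.ker (K.d i (i + 1)).hom

/-- The class map. -/
noncomputable def clsMap (K : Cx A) (i : ℤ) : Zc K i →ₗ[A] K.homology i :=
  cls (next_eq i (i + 1) rfl)

lemma clsMap_surjective (K : Cx A) (i : ℤ) : Function.Surjective (clsMap K i) :=
  cls_surjective _

/-- Boundaries as cycles. -/
noncomputable def bd (K : Cx A) (i : ℤ) : K.X (i - 1) →ₗ[A] Zc K i :=
  (K.d (i - 1) i).hom.codRestrict _ (fun x => by
    rw [LinearMap.mem_ker, ← ConcreteCategory.comp_apply, HomologicalComplex.d_comp_d]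
    rfl)

lemma exact_bd_clsMap (K : Cx A) (i : ℤ) : Function.Exact (bd K i) (clsMap K i) := by
  intro z
  rw [clsMap, cls_eq_zero_iff (prev_eq (i - 1) i (by omega))]
  exact ⟨fun ⟨y, hy⟩ => ⟨y, Subtype.ext hy⟩, fun ⟨y, hy⟩ => ⟨y, congrArg Subtype.val hy⟩⟩

variable (L M : Cx A)

/-- The product of cycles. -/
noncomputable def cycTensor (i j n : ℤ) (h : i + j = n) :
    (Zc L i ⊗[A] Zc M j) →ₗ[A] Zc (tens L M) n :=
  (incl L M i j n h ∘ₗ TensorProduct.map (Zc L i).subtype (Zc M j).subtype).codRestrict _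
    (fun x => by
      induction x using TensorProduct.induction_on with
      | zero => simp
      | add a b ha hb => rw [map_add]; exact Submodule.add_mem _ ha hb
      | tmul z z' =>
        have e := d_incl L M i j n (i + 1) (j + 1) (n + 1) h rfl rfl (by omega) (by omega)
          (z.1 ⊗ₜ z'.1)
        rw [LinearMap.rTensor_tmul, LinearMap.lTensor_tmul] at e
        have hz : (L.d i (i + 1)).hom z.1 = 0 := z.2
        have hz' : (M.d j (j + 1)).hom z'.1 = 0 := z'.2
        rw [hz, hz', TensorProduct.zero_tmul, TensorProduct.tmul_zero, map_zero, map_zero,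
          smul_zero, add_zero] at e
        exact e)

lemma cycTensor_coe (i j n : ℤ) (h : i + j = n) (z : Zc L i) (z' : Zc M j) :
    (cycTensor L M i j n h (z ⊗ₜ z') : (tens L M).X n) = incl L M i j n h (z.1 ⊗ₜ z'.1) := rfl

lemma ker_le (i j n : ℤ) (h : i + j = n) :
    LinearMap.ker (TensorProduct.map (clsMap L i) (clsMap M j)) ≤
      LinearMap.ker (clsMap (tens L M) n ∘ₗ cycTensor L M i j n h) := by
  rw [TensorProduct.map_ker (exact_bd_clsMap L i) (clsMap_surjective L i) (exact_bd_clsMap M j)
    (clsMap_surjective M j)]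
  refine sup_le ?_ ?_
  · rintro _ ⟨x, rfl⟩
    induction x using TensorProduct.induction_on with
    | zero => simp
    | add a b ha hb => rw [map_add]; exact Submodule.add_mem _ ha hb
    | tmul z y =>
      rw [LinearMap.mem_ker, LinearMap.lTensor_tmul, LinearMap.comp_apply, clsMap,
        cls_eq_zero_iff (prev_eq (n - 1) n (by omega)), cycTensor_coe]
      refine ⟨((i.negOnePow : ℤˣ) : ℤ) • incl L M i (j - 1) (n - 1) (by omega) (z.1 ⊗ₜ y), ?_⟩
      have e := d_incl L M i (j - 1) (n - 1) (i + 1) j n (by omega) rfl (by omega) (by omega) h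
        (z.1 ⊗ₜ y)
      rw [LinearMap.rTensor_tmul, LinearMap.lTensor_tmul] at e
      have hz : (L.d i (i + 1)).hom z.1 = 0 := z.2
      rw [hz, TensorProduct.zero_tmul, map_zero, zero_add] at e
      rw [map_zsmul]
      refine (congrArg (fun t => ((i.negOnePow : ℤˣ) : ℤ) • t) e).trans ?_
      rw [smul_smul, ← Units.val_mul, Int.units_mul_self, Units.val_one, one_smul]
      rfl
  · rintro _ ⟨x, rfl⟩
    induction x using TensorProduct.induction_on with
    | zero => simp
    | add a b ha hb => rw [map_add]; exact Submodule.add_mem _ ha hb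
    | tmul y z' =>
      rw [LinearMap.mem_ker, LinearMap.rTensor_tmul, LinearMap.comp_apply, clsMap,
        cls_eq_zero_iff (prev_eq (n - 1) n (by omega)), cycTensor_coe]
      refine ⟨incl L M (i - 1) j (n - 1) (by omega) (y ⊗ₜ z'.1), ?_⟩
      have e := d_incl L M (i - 1) j (n - 1) i (j + 1) n (by omega) (by omega) rfl h (by omega)
        (y ⊗ₜ z'.1)
      rw [LinearMap.rTensor_tmul, LinearMap.lTensor_tmul] at e
      have hz' : (M.d j (j + 1)).hom z'.1 = 0 := z'.2
      rw [hz', TensorProduct.tmul_zero, map_zero, smul_zero, add_zero] at e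
      exact e

lemma map_cls_surjective (i j : ℤ) :
    Function.Surjective (TensorProduct.map (clsMap L i) (clsMap M j)) :=
  TensorProduct.map_surjective (clsMap_surjective L i) (clsMap_surjective M j)

/-- The Künneth map on one summand. -/
noncomputable def kfun (i j n : ℤ) (h : i + j = n) :
    (L.homology i ⊗[A] M.homology j) →ₗ[A] (tens L M).homology n :=
  (LinearMap.ker (TensorProduct.map (clsMap L i) (clsMap M j))).liftQ
      (clsMap (tens L M) n ∘ₗ cycTensor L M i j n h) (ker_le L M i j n h) ∘ₗ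
    ((TensorProduct.map (clsMap L i) (clsMap M j)).quotKerEquivOfSurjective
      (map_cls_surjective L M i j)).symm.toLinearMap

lemma kfun_map (i j n : ℤ) (h : i + j = n) (x : Zc L i ⊗[A] Zc M j) :
    kfun L M i j n h (TensorProduct.map (clsMap L i) (clsMap M j) x) =
      clsMap (tens L M) n (cycTensor L M i j n h x) := by
  have : ((TensorProduct.map (clsMap L i) (clsMap M j)).quotKerEquivOfSurjective
      (map_cls_surjective L M i j)).symm (TensorProduct.map (clsMap L i) (clsMap M j) x) =
      Submodule.Quotient.mk x := by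
    rw [LinearEquiv.symm_apply_eq]
    rfl
  simp only [kfun, LinearMap.comp_apply, LinearEquiv.coe_toLinearMap, this]
  rfl

/-- The index set. -/
abbrev Anti (n : ℤ) : Type := {ij : ℤ × ℤ // ij.1 + ij.2 = n}

/-- The Künneth sum. -/
abbrev KSum (n : ℤ) : Type u :=
  DirectSum (Anti n) fun ij => TensorProduct A (L.homology ij.1.1) (M.homology ij.1.2)

/-- The Künneth map. -/
noncomputable def kmap (n : ℤ) : KSum L M n →ₗ[A] (tens L M).homology n :=
  DirectSum.toModule A (Anti n) _ (fun ij => kfun L M ij.1.1 ij.1.2 n ij.2)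

lemma kmap_lof (n : ℤ) (ij : Anti n) (x : L.homology ij.1.1 ⊗[A] M.homology ij.1.2) :
    kmap L M n (DirectSum.lof A (Anti n) _ ij x) = kfun L M ij.1.1 ij.1.2 n ij.2 x :=
  DirectSum.toModule_lof _ _ _

/-- The Künneth map on classes, in terms of `homologyπ`. -/
lemma kmap_spec (n : ℤ) (ij : Anti n) (z : L.cycles ij.1.1) (z' : M.cycles ij.1.2)
    (w : (tens L M).cycles n)
    (hw : (tens L M).iCycles n w = incl L M ij.1.1 ij.1.2 n ij.2
      (L.iCycles ij.1.1 z ⊗ₜ[A] M.iCycles ij.1.2 z')) :
    kmap L M n (DirectSum.lof A (Anti n) _ ij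
      (L.homologyπ ij.1.1 z ⊗ₜ[A] M.homologyπ ij.1.2 z')) = (tens L M).homologyπ n w := by
  let a : Zc L ij.1.1 := ⟨L.iCycles _ z, d_iCycles z⟩
  let a' : Zc M ij.1.2 := ⟨M.iCycles _ z', d_iCycles z'⟩
  have h1 : clsMap L _ a = L.homologyπ _ z := cls_eq_homologyπ _ a z rfl
  have h2 : clsMap M _ a' = M.homologyπ _ z' := cls_eq_homologyπ _ a' z' rfl
  rw [← h1, ← h2, kmap_lof, ← TensorProduct.map_tmul, kfun_map]
  exact cls_eq_homologyπ _ _ w hw

variable {M} {M' : Cx A}

lemma zc_map (f : M ⟶ M') (j : ℤ) (z : Zc M j) : (f.f j) z.1 ∈ Zc M' j := by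
  have hz : (M.d j (j + 1)).hom z.1 = 0 := z.2
  rw [LinearMap.mem_ker, ← ConcreteCategory.comp_apply, f.comm, ConcreteCategory.comp_apply]
  exact (congrArg _ hz).trans (map_zero _)

/-- Functoriality of the sum in the second variable. -/
noncomputable def sumMap (f : M ⟶ M') (n : ℤ) : KSum L M n →ₗ[A] KSum L M' n :=
  DirectSum.lmap (fun ij => (homologyMap f ij.1.2).hom.lTensor (L.homology ij.1.1))

/-- Naturality of the Künneth map in the second variable. -/
lemma kmap_naturality (f : M ⟶ M') (n : ℤ) (x : KSum L M n) :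
    homologyMap (mapR L f) n (kmap L M n x) = kmap L M' n (sumMap L f n x) := by
  suffices e : (homologyMap (mapR L f) n).hom ∘ₗ kmap L M n = kmap L M' n ∘ₗ sumMap L f n from
    LinearMap.congr_fun e x
  refine DirectSum.linearMap_ext A (fun ij => LinearMap.ext fun y => ?_)
  obtain ⟨w, rfl⟩ := map_cls_surjective L M ij.1.1 ij.1.2 y
  simp only [LinearMap.comp_apply, kmap_lof, sumMap, DirectSum.lmap_lof, kfun_map]
  induction w using TensorProduct.induction_on with
  | zero => simp
  | add a b ha hb => simp only [map_add, ha, hb]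
  | tmul z z' =>
    rw [TensorProduct.map_tmul, LinearMap.lTensor_tmul]
    have h2 : (homologyMap f ij.1.2).hom (clsMap M _ z') = clsMap M' _ ⟨_, zc_map f _ z'⟩ :=
      homologyMap_cls f _ z' ⟨_, zc_map f _ z'⟩ rfl
    rw [h2, ← TensorProduct.map_tmul, kfun_map]
    refine homologyMap_cls (mapR L f) _ _ _ ?_
    rw [cycTensor_coe, cycTensor_coe, mapR_incl, LinearMap.lTensor_tmul]

variable (M)

/-- If `M` has zero differential and flat terms, the Künneth map is bijective. -/
theorem kmap_bijective_of_d_eq_zero (hd : ∀ i j, M.d i j = 0)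
    (hflat : ∀ j, Module.Flat A (M.X j)) (n : ℤ) : Function.Bijective (kmap L M n) := by
  have hZ : ∀ j, Zc M j = ⊤ := fun j => by simp [Zc, hd]
  have hLdcomp : ∀ i, Function.Exact (Zc L i).subtype (L.d i (i + 1)).hom := fun i =>
    LinearMap.exact_subtype_ker_map _
  constructor
  · rw [injective_iff_map_eq_zero]
    intro u hu
    let π : ∀ ij : Anti n, (Zc L ij.1.1 ⊗[A] Zc M ij.1.2) →ₗ[A]
        (L.homology ij.1.1 ⊗[A] M.homology ij.1.2) :=
      fun ij => TensorProduct.map (clsMap L ij.1.1) (clsMap M ij.1.2)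
    have hπ : ∀ ij, Function.Surjective (π ij) := fun ij => map_cls_surjective L M ij.1.1 ij.1.2
    obtain ⟨v, rfl⟩ := (DirectSum.lmap_surjective π).2 hπ u
    let Ψ : (DirectSum (Anti n) fun ij => Zc L ij.1.1 ⊗[A] Zc M ij.1.2) →ₗ[A] Zc (tens L M) n :=
      DirectSum.toModule A (Anti n) _ (fun ij => cycTensor L M ij.1.1 ij.1.2 n ij.2)
    have hΨ : kmap L M n (DirectSum.lmap π v) = clsMap (tens L M) n (Ψ v) := by
      suffices e : kmap L M n ∘ₗ DirectSum.lmap π =
          clsMap (tens L M) n ∘ₗ Ψ from LinearMap.congr_fun e v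
      refine DirectSum.linearMap_ext A (fun ij => LinearMap.ext fun y => ?_)
      simp only [LinearMap.comp_apply, DirectSum.lmap_lof, kmap_lof, π, kfun_map, Ψ,
        DirectSum.toModule_lof]
    have hproj : ∀ ij : Anti n, proj L M ij.1.1 ij.1.2 n (Ψ v).1 =
        TensorProduct.map (Zc L ij.1.1).subtype (Zc M ij.1.2).subtype (v ij) := by
      intro ij
      suffices e : (proj L M ij.1.1 ij.1.2 n) ∘ₗ (Zc (tens L M) n).subtype ∘ₗ Ψ =
          TensorProduct.map (Zc L ij.1.1).subtype (Zc M ij.1.2).subtype ∘ₗ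
            DirectSum.component A (Anti n) _ ij from LinearMap.congr_fun e v
      refine DirectSum.linearMap_ext A (fun kl => LinearMap.ext fun y => ?_)
      simp only [LinearMap.comp_apply, Ψ, DirectSum.toModule_lof, Submodule.subtype_apply]
      change proj L M ij.1.1 ij.1.2 n (incl L M kl.1.1 kl.1.2 n kl.2
        (TensorProduct.map (Zc L kl.1.1).subtype (Zc M kl.1.2).subtype y)) = _
      by_cases hk : kl = ij
      · subst hk
        rw [proj_incl, DirectSum.component.lof_self]
      · rw [proj_incl_ne L M _ _ _ _ n _ (fun h => hk (Subtype.ext (Prod.ext h.1 h.2))),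
          DirectSum.component.of, dif_neg hk, map_zero]
    rw [hΨ, clsMap, cls_eq_zero_iff (prev_eq (n - 1) n (by omega))] at hu
    obtain ⟨y, hy⟩ := hu
    refine DirectSum.ext_component A (fun ij => ?_)
    rw [map_zero, ← DirectSum.apply_eq_component, DirectSum.lmap_apply]
    have e := hproj ij
    rw [← hy] at e
    have e' := e.symm.trans (proj_d L M (ij.1.1 - 1) ij.1.1 (ij.1.2 - 1) ij.1.2 (n - 1) n
      (by omega) (by omega) ij.2 (by omega) y)
    rw [hd, ModuleCat.hom_zero, LinearMap.lTensor_zero, LinearMap.zero_apply, smul_zero,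
      add_zero] at e'
    let τ : M.X ij.1.2 →ₗ[A] Zc M ij.1.2 := LinearMap.id.codRestrict _ (fun x => by simp [hZ])
    have key : v ij = TensorProduct.map (bd L ij.1.1) τ (proj L M (ij.1.1 - 1) ij.1.2 (n - 1) y) := by
      have hinj : Function.Injective
          (TensorProduct.map (Zc L ij.1.1).subtype (Zc M ij.1.2).subtype) := by
        have h1 : Function.Injective ((Zc L ij.1.1).subtype.rTensor (M.X ij.1.2)) := by
          have := hflat ij.1.2
          exact Module.Flat.rTensor_preserves_injective_linearMap _ Subtype.coe_injective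
        have h2 : Function.Bijective ((Zc M ij.1.2).subtype.lTensor (Zc L ij.1.1)) := by
          refine ((LinearEquiv.ofTop _ (hZ ij.1.2)).lTensor (Zc L ij.1.1)).bijective
        rw [show TensorProduct.map (Zc L ij.1.1).subtype (Zc M ij.1.2).subtype =
          (Zc L ij.1.1).subtype.rTensor (M.X ij.1.2) ∘ₗ
            (Zc M ij.1.2).subtype.lTensor (Zc L ij.1.1) from (LinearMap.rTensor_comp_lTensor ..).symm]
        exact h1.comp h2.injective
      refine hinj (e'.trans ?_)
      rw [← LinearMap.comp_apply (TensorProduct.map (Zc L ij.1.1).subtype (Zc M ij.1.2).subtype)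
        (TensorProduct.map (bd L ij.1.1) τ), ← TensorProduct.map_comp]
      rfl
    rw [key, ← LinearMap.comp_apply, ← TensorProduct.map_comp]
    have hz : clsMap L ij.1.1 ∘ₗ bd L ij.1.1 = 0 :=
      (exact_bd_clsMap L ij.1.1).linearMap_comp_eq_zero
    rw [hz, TensorProduct.map_zero_left, LinearMap.zero_apply]
  · intro a
    obtain ⟨x, rfl⟩ := clsMap_surjective (tens L M) n a
    obtain ⟨s, hs, hsum⟩ := exists_eq_sum x.1
    have hp : ∀ i, ∃ w : Zc L i ⊗[A] Zc M (n - i),
        (cycTensor L M i (n - i) n (add_sub_cancel i n) w).1 =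
          incl L M i (n - i) n (add_sub_cancel i n) (proj L M i (n - i) n x.1) := by
      intro i
      have hx : (tens L M).d n (n + 1) x.1 = 0 := x.2
      have e := proj_d L M i (i + 1) (n - i - 1) (n - i) n (n + 1) rfl (by omega) (by omega) rfl x.1
      rw [hx, map_zero, hd, ModuleCat.hom_zero, LinearMap.lTensor_zero, LinearMap.zero_apply,
        smul_zero, add_zero] at e
      have := hflat (n - i)
      obtain ⟨w, hw⟩ := (Module.Flat.rTensor_exact (M.X (n - i)) (hLdcomp i) _).1 e.symm
      let τ : M.X (n - i) →ₗ[A] Zc M (n - i) := LinearMap.id.codRestrict _ (fun x => by simp [hZ])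
      refine ⟨TensorProduct.map LinearMap.id τ w, ?_⟩
      change incl L M i (n - i) n _ (TensorProduct.map _ _ (TensorProduct.map _ _ w)) = _
      rw [← LinearMap.comp_apply (TensorProduct.map _ _), ← TensorProduct.map_comp, ← hw]
      rfl
    choose w hw using hp
    refine ⟨∑ i ∈ s, DirectSum.lof A (Anti n) _ ⟨(i, n - i), add_sub_cancel i n⟩
      (TensorProduct.map (clsMap L i) (clsMap M (n - i)) (w i)), ?_⟩
    rw [map_sum]
    refine ((Finset.sum_congr rfl fun i _ => ?_).trans
      (map_sum (clsMap (tens L M) n) (fun i => cycTensor L M i (n - i) n (add_sub_cancel i n) (w i)) s).symm).trans ?_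
    · rw [kmap_lof]; exact kfun_map L M _ _ _ _ _
    congr 1
    apply Subtype.ext
    rw [hsum, Submodule.coe_sum]
    exact Finset.sum_congr rfl (fun i _ => hw i)

end Groth.Agent.Lib.TensorCx.Kunneth
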