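import Groth.Agent.Lib.TensorCx.Kunneth
import Mathlib.LinearAlgebra.Finsupp.LinearCombination
import Mathlib.RingTheory.Flat.Basic

/-!
# Covering a complex by a complex with free cohomology
-/

universe u

open CategoryTheory CategoryTheory.Limits MonoidalCategory HomologicalComplex
open scoped TensorProduct DirectSum
open Groth.Agent.Lib.TensorCx.Basic Groth.Agent.Lib.TensorCx.Vanish
  Groth.Agent.Lib.TensorCx.Kunneth Groth.Agent.Lib.FlatCx.Elem

namespace Groth.Agent.Lib.TensorCx.Resolution

variable {A : Type u} [CommRing A]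

/-- The generators: non-zero classes. -/
abbrev Gen (M : Cx A) (j : ℤ) : Type u := {a : M.homology j // a ≠ 0}

/-- A chosen representative. -/
noncomputable def rep (M : Cx A) (j : ℤ) (a : Gen M j) : Zc M j :=
  (clsMap_surjective M j a.1).choose

lemma clsMap_rep (M : Cx A) (j : ℤ) (a : Gen M j) : clsMap M j (rep M j a) = a.1 :=
  (clsMap_surjective M j a.1).choose_spec

/-- Free modules on non-zero classes, with zero differential. -/
noncomputable def zeroCx (M : Cx A) : Cx A where
  X j := ModuleCat.of A ((Gen M j) →₀ A)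
  d _ _ := 0

/-- The evaluation of formal sums of cycles. -/
noncomputable def zeroπ (M : Cx A) : zeroCx M ⟶ M where
  f j := ModuleCat.ofHom (Finsupp.linearCombination A (fun a : Gen M j => (rep M j a).1))
  comm' i j hij := by
    obtain rfl : i + 1 = j := hij
    refine ModuleCat.hom_ext (Finsupp.lhom_ext (fun z r => ?_))
    change M.d i (i + 1) (Finsupp.linearCombination A (fun a : Gen M i => (rep M i a).1)
      (Finsupp.single z r)) =
      Finsupp.linearCombination A (fun a : Gen M (i + 1) => (rep M (i + 1) a).1) 0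
    rw [Finsupp.linearCombination_single, map_zero, map_smul,
      show M.d i (i + 1) (rep M i z).1 = 0 from (rep M i z).2, smul_zero]

lemma homologyMap_zeroπ_surjective (M : Cx A) (j : ℤ) :
    Function.Surjective (homologyMap (zeroπ M) j) := by
  intro a
  by_cases ha : a = 0
  · exact ⟨0, ha ▸ map_zero _⟩
  have hz : (Finsupp.single (⟨a, ha⟩ : Gen M j) (1 : A) : (zeroCx M).X j) ∈ Zc (zeroCx M) j :=
    show (0 : (zeroCx M).X j →ₗ[A] (zeroCx M).X (j + 1)) _ = 0 from rfl
  refine ⟨clsMap (zeroCx M) j ⟨_, hz⟩,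
    (homologyMap_cls _ _ _ (rep M j ⟨a, ha⟩) ?_).trans (clsMap_rep M j ⟨a, ha⟩)⟩
  exact (Finsupp.linearCombination_single A _ _).trans (one_smul A _)

/-- The covering complex. -/
noncomputable abbrev cover (M : Cx A) : Cx A := zeroCx M ⊞ disk M

/-- The covering map. -/
noncomputable def coverπ (M : Cx A) : cover M ⟶ M := biprod.desc (zeroπ M) (diskπ M)

lemma coverπ_surjective (M : Cx A) (j : ℤ) : Function.Surjective ((coverπ M).f j) := by
  intro y
  obtain ⟨x, hx⟩ := diskπ_surjective M j y
  refine ⟨(biprod.inr : disk M ⟶ cover M).f j x, ?_⟩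
  rw [← ConcreteCategory.comp_apply, ← HomologicalComplex.comp_f, coverπ, biprod.inr_desc, hx]

/-- The syzygy. -/
noncomputable def syz (M : Cx A) : Cx A := kernel (coverπ M)

/-- The short complex `syz M → cover M → M`. -/
noncomputable def coverSC (M : Cx A) : ShortComplex (Cx A) :=
  ShortComplex.mk (kernel.ι (coverπ M)) (coverπ M) (kernel.condition _)

lemma coverSC_shortExact (M : Cx A) : (coverSC M).ShortExact := by
  have : Epi (coverπ M) := HomologicalComplex.epi_of_epi_f _ (fun j =>
    (ModuleCat.epi_iff_surjective _).2 (coverπ_surjective M j))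
  exact ShortComplex.ShortExact.mk' (ShortComplex.exact_of_f_is_kernel _ (kernelIsKernel _))
    (inferInstanceAs (Mono (kernel.ι (coverπ M)))) (inferInstanceAs (Epi (coverπ M)))

lemma homologyMap_coverπ_surjective (M : Cx A) (j : ℤ) :
    Function.Surjective (homologyMap (coverπ M) j) := by
  intro a
  obtain ⟨x, hx⟩ := homologyMap_zeroπ_surjective M j a
  refine ⟨homologyMap (biprod.inl : zeroCx M ⟶ cover M) j x, ?_⟩
  rw [← ConcreteCategory.comp_apply, ← homologyMap_comp, coverπ, biprod.inl_desc, hx]

lemma isIso_homologyMap_inl (M : Cx A) (j : ℤ) :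
    IsIso (homologyMap (biprod.inl : zeroCx M ⟶ cover M) j) := by
  have hs := biprodSC_shortExact (zeroCx M) (disk M)
  have hz : ∀ k, IsZero ((disk M).homology k) := fun k => (disk_exactAt M k).isZero_homology
  have : Epi (homologyMap (biprod.inl : zeroCx M ⟶ cover M) j) :=
    (hs.homology_exact₂ j).epi_f ((hz j).eq_of_tgt _ _)
  have : Mono (homologyMap (biprod.inl : zeroCx M ⟶ cover M) j) :=
    (hs.homology_exact₁ (j - 1) j (by simp)).mono_g ((hz (j - 1)).eq_of_src _ _)
  exact isIso_of_mono_of_epi _

lemma flat_homology_cover (M : Cx A) (j : ℤ) : Module.Flat A ((cover M).homology j) := by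
  have := isIso_homologyMap_inl M j
  have hd1 : (zeroCx M).d (j - 1) j = 0 := rfl
  have hd2 : (zeroCx M).d j (j + 1) = 0 := rfl
  have hc : Function.Bijective (clsMap (zeroCx M) j) := by
    refine ⟨?_, clsMap_surjective _ j⟩
    rw [injective_iff_map_eq_zero]
    intro z hz
    obtain ⟨y, hy⟩ := (cls_eq_zero_iff (prev_eq (j - 1) j (by omega)) _ z).1 hz
    exact Subtype.ext hy.symm
  have htop : Zc (zeroCx M) j = ⊤ := by
    rw [Zc, hd2, ModuleCat.hom_zero, LinearMap.ker_zero]
  have : Module.Flat A ((zeroCx M).X j) := inferInstanceAs (Module.Flat A ((Gen M j) →₀ A))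
  exact Module.Flat.of_linearEquiv (((LinearEquiv.ofTop _ htop).symm.trans
    (LinearEquiv.ofBijective (clsMap (zeroCx M) j) hc)).trans
      (asIso (homologyMap (biprod.inl : zeroCx M ⟶ cover M) j)).toLinearEquiv).symm

/-- The short exact sequence in cohomology. -/
noncomputable def homSC (M : Cx A) (j : ℤ) : ShortComplex (ModuleCat.{u} A) :=
  ShortComplex.mk (homologyMap (coverSC M).f j) (homologyMap (coverSC M).g j)
    (by rw [← homologyMap_comp, (coverSC M).zero, homologyMap_zero])

lemma homSC_shortExact (M : Cx A) (j : ℤ) : (homSC M j).ShortExact := by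
  have hS := coverSC_shortExact M
  refine ShortComplex.ShortExact.mk' (hS.homology_exact₂ j)
    ((hS.homology_exact₁ (j - 1) j (by simp)).mono_g ?_)
    ((ModuleCat.epi_iff_surjective _).2 (homologyMap_coverπ_surjective M j))
  have : Epi (homologyMap (coverSC M).g (j - 1)) :=
    (ModuleCat.epi_iff_surjective _).2 (homologyMap_coverπ_surjective M (j - 1))
  exact zero_of_epi_comp _ (hS.comp_δ (j - 1) j (by simp))

lemma exactAt_cover (M : Cx A) (j : ℤ) (hM : M.ExactAt j) : (cover M).ExactAt j := by
  have := isIso_homologyMap_inl M j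
  have : Subsingleton (M.homology j) := ModuleCat.subsingleton_of_isZero hM.isZero_homology
  have : IsEmpty (Gen M j) := ⟨fun a => a.2 (Subsingleton.elim _ _)⟩
  have h0 : IsZero ((zeroCx M).X j) := by
    have : Subsingleton ((Gen M j) →₀ A) := inferInstance
    exact ModuleCat.isZero_of_subsingleton (ModuleCat.of A ((Gen M j) →₀ A))
  rw [exactAt_iff_isZero_homology]
  exact (ShortComplex.isZero_homology_of_isZero_X₂ ((zeroCx M).sc j) h0).of_iso
    (asIso (homologyMap (biprod.inl : zeroCx M ⟶ cover M) j)).symm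

lemma exactAt_syz (M : Cx A) (j : ℤ) (hM : M.ExactAt j) : (syz M).ExactAt j := by
  have hm : Mono (homologyMap (coverSC M).f j) := (homSC_shortExact M j).mono_f
  rw [exactAt_iff_isZero_homology]
  exact @IsZero.of_mono _ _ _ _ _ (homologyMap (coverSC M).f j) hm (exactAt_cover M j hM).isZero_homology

variable (L : Cx A)

/-- The Künneth map of the cover is bijective. -/
lemma kmap_cover_bijective (hflat : ∀ i, Module.Flat A (L.X i)) (b : ℤ)
    (hb : ∀ i, b < i → IsZero (L.X i)) (M : Cx A) (n : ℤ) :
    Function.Bijective (kmap L (cover M) n) := by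
  have h0 := kmap_bijective_of_d_eq_zero L (zeroCx M) (fun _ _ => rfl)
    (fun j => inferInstanceAs (Module.Flat A ((Gen M j) →₀ A))) n
  have h1 : Function.Bijective (homologyMap (mapR L (biprod.inl : zeroCx M ⟶ cover M)) n) := by
    have := isIso_homologyMap_tens_inl (L := L) hflat b hb (zeroCx M) (disk M) (disk_exactAt M) n
    exact (asIso (homologyMap (mapR L (biprod.inl : zeroCx M ⟶ cover M)) n)).toLinearEquiv.bijective
  have h2 : Function.Bijective (sumMap L (biprod.inl : zeroCx M ⟶ cover M) n) := by
    have hb' : ∀ ij : Anti n, Function.Bijective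
        ((homologyMap (biprod.inl : zeroCx M ⟶ cover M) ij.1.2).hom.lTensor (L.homology ij.1.1)) :=
      fun ij => by
        have := isIso_homologyMap_inl M ij.1.2
        exact ((asIso (homologyMap (biprod.inl : zeroCx M ⟶ cover M) ij.1.2)).toLinearEquiv.lTensor
          (L.homology ij.1.1)).bijective
    exact ⟨(DirectSum.lmap_injective _).2 (fun ij => (hb' ij).1),
      (DirectSum.lmap_surjective _).2 (fun ij => (hb' ij).2)⟩
  have e : (kmap L (cover M) n) ∘ sumMap L (biprod.inl : zeroCx M ⟶ cover M) n =
      (homologyMap (mapR L (biprod.inl : zeroCx M ⟶ cover M)) n) ∘ kmap L (zeroCx M) n :=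
    funext fun x => (kmap_naturality L _ n x).symm
  have := h1.comp h0
  rw [← e] at this
  exact Function.Bijective.of_comp_iff (kmap L (cover M) n) h2 |>.1 this

lemma sumMap_comp {M M' M'' : Cx A} (f : M ⟶ M') (g : M' ⟶ M'') (n : ℤ) (x : KSum L M n) :
    sumMap L g n (sumMap L f n x) = sumMap L (f ≫ g) n x := by
  apply DirectSum.ext_component A
  intro ij
  simp only [← DirectSum.apply_eq_component, sumMap, DirectSum.lmap_apply]
  rw [homologyMap_comp, ModuleCat.hom_comp, LinearMap.lTensor_comp]
  rfl

lemma sumMap_coverπ_surjective (M : Cx A) (n : ℤ) :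
    Function.Surjective (sumMap L (coverπ M) n) :=
  (DirectSum.lmap_surjective _).2 (fun ij =>
    LinearMap.lTensor_surjective _ (homologyMap_coverπ_surjective M ij.1.2))

/-- The image of the Künneth map is the image of the cohomology of the cover. -/
lemma mem_range_kmap_iff (hflat : ∀ i, Module.Flat A (L.X i)) (b : ℤ)
    (hb : ∀ i, b < i → IsZero (L.X i)) (M : Cx A) (n : ℤ) (a : (tens L M).homology n) :
    a ∈ LinearMap.range (kmap L M n) ↔
      ∃ y, homologyMap (mapR L (coverπ M)) n y = a := by
  constructor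
  · rintro ⟨u, rfl⟩
    obtain ⟨w, rfl⟩ := sumMap_coverπ_surjective L M n u
    exact ⟨kmap L (cover M) n w, kmap_naturality L _ n w⟩
  · rintro ⟨y, rfl⟩
    obtain ⟨w, rfl⟩ := (kmap_cover_bijective L hflat b hb M n).2 y
    exact ⟨sumMap L (coverπ M) n w, (kmap_naturality L _ n w).symm⟩

end Groth.Agent.Lib.TensorCx.Resolution
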